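import Groth.Agent.SmallExt1.Basic

/-! The lifting criterion of smoothness along small extensions, for schemes. -/

universe u

open AlgebraicGeometry CategoryTheory Limits

namespace Groth.Agent.SmallExt1

theorem eq_closedPoint (B : Type u) [CommRing B] [IsLocalRing B] [IsArtinianRing B]
    (z : Spec (CommRingCat.of B)) : z = IsLocalRing.closedPoint B := by
  refine PrimeSpectrum.ext ?_
  haveI : z.asIdeal.IsMaximal := IsArtinianRing.isMaximal_of_isPrime z.asIdeal
  exact IsLocalRing.eq_maximalIdeal inferInstance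

theorem point {B B' : Type u} [CommRing B] [CommRing B'] [IsArtinianRing B'] [IsLocalRing B] [IsLocalRing B']
    (z : Spec (CommRingCat.of B')) (φ : B' →+* B) :
    (Spec.map (CommRingCat.ofHom φ)).base (IsLocalRing.closedPoint B) = z :=
  (eq_closedPoint B' _).trans (eq_closedPoint B' z).symm

theorem exists_lift_of_smooth {X S : Scheme.{u}} (f : X ⟶ S) [Smooth f]
    {B B' : Type u} [CommRing B] [CommRing B'] [IsArtinianRing B] [IsArtinianRing B'] [IsLocalRing B] [IsLocalRing B']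
    (φ : B' →+* B) (ε : B') (hφ : Function.Surjective φ) (hker : RingHom.ker φ = Ideal.span {ε})
    (hε : ∀ m ∈ IsLocalRing.maximalIdeal B', ε * m = 0)
    (α : Spec (CommRingCat.of B) ⟶ X) (β : Spec (CommRingCat.of B') ⟶ S)
    (hsq : Spec.map (CommRingCat.ofHom φ) ≫ β = α ≫ f) :
    ∃ γ : Spec (CommRingCat.of B') ⟶ X, Spec.map (CommRingCat.ofHom φ) ≫ γ = α ∧ γ ≫ f = β := by
  set p₀ := α.base (IsLocalRing.closedPoint B)
  obtain ⟨_, ⟨V, hV, rfl⟩, hpV, -⟩ :=
    S.isBasis_affineOpens.exists_subset_of_mem_open (Set.mem_univ (f.base p₀)) isOpen_univ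
  obtain ⟨_, ⟨U, hU, rfl⟩, hpU, hUV⟩ :=
    X.isBasis_affineOpens.exists_subset_of_mem_open (hpV : p₀ ∈ f ⁻¹ᵁ V) (f ⁻¹ᵁ V).2
  have hα : Set.range α.base ⊆ Set.range hU.fromSpec.base := by
    rintro _ ⟨z, rfl⟩
    rw [hU.range_fromSpec, eq_closedPoint B z]
    exact hpU
  have hβ : Set.range β.base ⊆ Set.range hV.fromSpec.base := by
    rintro _ ⟨z, rfl⟩
    rw [hV.range_fromSpec, ← point z φ]
    have : β.base ((Spec.map (CommRingCat.ofHom φ)).base (IsLocalRing.closedPoint B)) = f.base p₀ :=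
      congrArg (fun h : _ ⟶ S => h.base (IsLocalRing.closedPoint B)) hsq
    rw [this]
    exact hpV
  obtain ⟨a, ha⟩ : ∃ a : Γ(X, U) ⟶ CommRingCat.of B, Spec.map a ≫ hU.fromSpec = α :=
    ⟨Spec.preimage (IsOpenImmersion.lift hU.fromSpec α hα), by rw [Spec.map_preimage, IsOpenImmersion.lift_fac]⟩
  obtain ⟨b, hb⟩ : ∃ b : Γ(S, V) ⟶ CommRingCat.of B', Spec.map b ≫ hV.fromSpec = β :=
    ⟨Spec.preimage (IsOpenImmersion.lift hV.fromSpec β hβ), by rw [Spec.map_preimage, IsOpenImmersion.lift_fac]⟩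
  have hcomm : b ≫ CommRingCat.ofHom φ = f.appLE V U hUV ≫ a := by
    apply Spec.map_injective
    rw [← cancel_mono hV.fromSpec, Spec.map_comp, Spec.map_comp, Category.assoc, Category.assoc, hb, hsq,
      hV.SpecMap_appLE_fromSpec f hU hUV, ← Category.assoc, ha]
  have hs := f.smooth_appLE hV hU hUV
  algebraize [(f.appLE V U hUV).hom]
  letI : Algebra Γ(S, V) B' := b.hom.toAlgebra
  letI : Algebra Γ(S, V) B := (φ.comp b.hom).toAlgebra
  haveI : Algebra.Smooth Γ(S, V) Γ(X, U) := RingHom.smooth_algebraMap.1 hs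
  let πA : B' →ₐ[Γ(S, V)] B := { φ with commutes' := fun _ => rfl }
  let aA : Γ(X, U) →ₐ[Γ(S, V)] B :=
    { a.hom with commutes' := fun x => (RingHom.congr_fun (congrArg CommRingCat.Hom.hom hcomm) x).symm }
  have hnil : IsNilpotent (RingHom.ker (πA : B' →+* B)) := by
    refine ⟨2, ?_⟩
    change RingHom.ker φ ^ 2 = ⊥
    rw [hker, Ideal.span_singleton_pow, Ideal.span_singleton_eq_bot, pow_two]
    refine hε ε ((IsLocalRing.mem_maximalIdeal _).2 fun hu => not_isUnit_zero (M₀ := B) ?_)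
    have h0 : φ ε = 0 := (hker.symm ▸ Ideal.mem_span_singleton_self ε : ε ∈ RingHom.ker φ)
    exact h0 ▸ hu.map φ
  let c := Algebra.FormallySmooth.liftOfSurjective aA πA hφ hnil
  have hc : πA.comp c = aA := Algebra.FormallySmooth.comp_liftOfSurjective _ _ _ _
  refine ⟨Spec.map (CommRingCat.ofHom c.toRingHom) ≫ hU.fromSpec, ?_, ?_⟩
  · rw [← ha, ← Category.assoc, ← Spec.map_comp]
    congr 2
    ext x
    exact AlgHom.congr_fun hc x
  · rw [Category.assoc, ← hV.SpecMap_appLE_fromSpec f hU hUV, ← Category.assoc, ← Spec.map_comp, ← hb]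
    congr 2
    ext x
    exact c.commutes x

theorem smooth_of_lifts {X S : Scheme.{u}} (f : X ⟶ S) [IsLocallyNoetherian S] [LocallyOfFiniteType f]
    (H : ∀ (B B' : Type u) [CommRing B] [CommRing B'] [IsArtinianRing B] [IsArtinianRing B'] [IsLocalRing B] [IsLocalRing B']
      (φ : B' →+* B) (ε : B'), Function.Surjective φ → RingHom.ker φ = Ideal.span {ε} → (∀ m ∈ IsLocalRing.maximalIdeal B', ε * m = 0) →
      ∀ (α : Spec (CommRingCat.of B) ⟶ X) (β : Spec (CommRingCat.of B') ⟶ S), LocallyOfFiniteType β →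
        Spec.map (CommRingCat.ofHom φ) ≫ β = α ≫ f →
        ∃ γ : Spec (CommRingCat.of B') ⟶ X, Spec.map (CommRingCat.ofHom φ) ≫ γ = α ∧ γ ≫ f = β) : Smooth f := by
  rw [smooth_iff]
  intro V hV U hU hUV
  haveI : IsNoetherianRing Γ(S, V) := IsLocallyNoetherian.component_noetherian ⟨V, hV⟩
  have hft := f.finiteType_appLE hV hU hUV
  algebraize [(f.appLE V U hUV).hom]
  show Algebra.Smooth Γ(S, V) Γ(X, U)
  haveI : Algebra.FinitePresentation Γ(S, V) Γ(X, U) := Algebra.FinitePresentation.of_finiteType.mp inferInstance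
  refine ⟨Algebra.smoothLocus_eq_univ_iff.1 (Set.eq_univ_iff_forall.2 fun x => ?_), inferInstance⟩
  obtain ⟨q, hq, hxq⟩ := Ideal.exists_le_maximal x.asIdeal x.isPrime.ne_top
  refine ((PrimeSpectrum.le_iff_specializes x ⟨q, hq.isPrime⟩).1 hxq).mem_open Algebra.isOpen_smoothLocus ?_
  refine Groth.Agent.SmallExt1.isSmoothAt_of_small q fun B' B _ _ _ _ _ _ _ _ _ π hπ ⟨t, ht, hkill⟩ g hg => ?_
  have hlft : LocallyOfFiniteType (Spec.map (CommRingCat.ofHom (algebraMap Γ(S, V) B'))) :=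
    (HasRingHomProperty.Spec_iff (P := @LocallyOfFiniteType)).2 (RingHom.finiteType_algebraMap.2 ‹_›)
  obtain ⟨γ, hγ₁, hγ₂⟩ := H B B' π.toRingHom t hπ ht (fun m hm => by rw [mul_comm]; exact hkill m hm)
    (Spec.map (CommRingCat.ofHom g.toRingHom) ≫ hU.fromSpec)
    (Spec.map (CommRingCat.ofHom (algebraMap Γ(S, V) B')) ≫ hV.fromSpec)
    (MorphismProperty.comp_mem @LocallyOfFiniteType _ _ hlft inferInstance) (by
      rw [Category.assoc, ← hV.SpecMap_appLE_fromSpec f hU hUV, ← Category.assoc, ← Spec.map_comp,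
        ← Category.assoc, ← Spec.map_comp]
      congr 2
      ext x
      exact ((g.commutes x).trans (π.commutes x).symm).symm)
  have hγ : Set.range γ.base ⊆ Set.range hU.fromSpec.base := by
    rintro _ ⟨z, rfl⟩
    rw [← point z π.toRingHom]
    have := congrArg (fun h : Spec (CommRingCat.of B) ⟶ X => h (IsLocalRing.closedPoint B)) hγ₁
    simp only [Scheme.Hom.comp_apply] at this
    exact ⟨_, this.symm⟩
  obtain ⟨c, hc⟩ : ∃ c : Γ(X, U) ⟶ CommRingCat.of B', Spec.map c ≫ hU.fromSpec = γ :=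
    ⟨Spec.preimage (IsOpenImmersion.lift hU.fromSpec γ hγ), by rw [Spec.map_preimage, IsOpenImmersion.lift_fac]⟩
  have e₁ : c ≫ CommRingCat.ofHom π.toRingHom = CommRingCat.ofHom g.toRingHom := by
    apply Spec.map_injective
    rw [← cancel_mono hU.fromSpec, Spec.map_comp, Category.assoc, hc, hγ₁]
  have e₂ : f.appLE V U hUV ≫ c = CommRingCat.ofHom (algebraMap Γ(S, V) B') := by
    apply Spec.map_injective
    rw [← cancel_mono hV.fromSpec, Spec.map_comp, Category.assoc, hV.SpecMap_appLE_fromSpec f hU hUV,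
      ← Category.assoc, hc, hγ₂]
  exact ⟨{ c.hom with commutes' := fun x => RingHom.congr_fun (congrArg CommRingCat.Hom.hom e₂) x },
    AlgHom.ext fun x => RingHom.congr_fun (congrArg CommRingCat.Hom.hom e₁) x⟩

end Groth.Agent.SmallExt1
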