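import Groth.Agent.S9268
import Groth.Agent.AdicSmooth.SmallExt

/-! Smoothness at maximal ideals from lifting along small extensions of finite type. -/

universe u

namespace Groth.Agent.SmallExt1

/-- An Artinian local algebra whose residue field is of finite type is of finite type. -/
theorem finiteType_of_residue {R A k : Type u} [CommRing R] [CommRing A] [Field k] [Algebra R A] [Algebra R k]
    [IsLocalRing A] [IsArtinianRing A] (θ : A →ₐ[R] k) (hθ : Function.Surjective θ)
    (hk : (⊤ : Subalgebra R k).FG) : Algebra.FiniteType R A := by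
  classical
  obtain ⟨s, hs⟩ := hk
  choose l hl using hθ
  set m := IsLocalRing.maximalIdeal A
  obtain ⟨t, ht⟩ : m.FG := IsNoetherian.noetherian m
  set A₀ := Algebra.adjoin R ((s.image l ∪ t : Finset A) : Set A)
  refine ⟨⟨s.image l ∪ t, eq_top_iff.2 fun x _ => ?_⟩⟩
  have hkerm : ∀ y, θ y = 0 → y ∈ m := fun y hy => (IsLocalRing.mem_maximalIdeal _).2 fun hu =>
    not_isUnit_zero (hy ▸ hu.map θ)
  have h1 : ∀ y : A, ∃ a ∈ A₀, y - a ∈ m := fun y => by
    have hy : θ y ∈ A₀.map θ := by
      have : θ y ∈ (⊤ : Subalgebra R k) := trivial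
      rw [← hs] at this
      refine Algebra.adjoin_le (fun z hz => ?_) this
      exact ⟨l z, Algebra.subset_adjoin (by simp only [Finset.coe_union, Finset.coe_image]; exact Or.inl ⟨z, hz, rfl⟩),
        hl z⟩
    obtain ⟨a, ha, hay⟩ := hy
    exact ⟨a, ha, hkerm _ (by rw [map_sub, ← hay]; exact sub_self _)⟩
  have h2 : ∀ i, ∀ y : A, ∃ a ∈ A₀, y - a ∈ m ^ (i + 1) := fun i => by
    induction i with
    | zero => simpa using h1
    | succ i ih =>
      intro y
      obtain ⟨a, ha, hya⟩ := h1 y
      rw [← ht] at hya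
      obtain ⟨c, hc, hsum⟩ : ∃ c : A → A, (∀ z ∈ t, True) ∧ ∑ z ∈ t, c z * z = y - a := by
        obtain ⟨c, -, hc⟩ := Submodule.mem_span_finset.1 hya
        exact ⟨c, fun _ _ => trivial, by simpa [smul_eq_mul] using hc⟩
      choose b hb hcb using fun z => ih (c z)
      refine ⟨a + ∑ z ∈ t, b z * z, A₀.add_mem ha (A₀.sum_mem fun z hz => A₀.mul_mem (hb z)
        (Algebra.subset_adjoin (by simp [hz]))), ?_⟩
      rw [← sub_sub, ← hsum, ← Finset.sum_sub_distrib]
      refine Ideal.sum_mem _ fun z hz => ?_
      rw [← sub_mul, pow_succ]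
      exact Ideal.mul_mem_mul (hcb z) (ht ▸ Ideal.subset_span hz)
  obtain ⟨n, hn⟩ := IsArtinianRing.isNilpotent_jacobson_bot (R := A)
  rw [IsLocalRing.jacobson_eq_maximalIdeal _ bot_ne_top] at hn
  obtain ⟨a, ha, hxa⟩ := h2 n x
  have : x - a ∈ (⊥ : Ideal A) := by
    rw [pow_succ, hn] at hxa
    simpa using hxa
  rw [Ideal.mem_bot, sub_eq_zero] at this
  exact this ▸ ha

/-- Lifting along finite type small extensions gives smoothness at a maximal ideal. -/
theorem isSmoothAt_of_small {R S : Type u} [CommRing R] [IsNoetherianRing R] [CommRing S] [Algebra R S]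
    [Algebra.FiniteType R S] (q : Ideal S) [q.IsMaximal]
    (H : ∀ (B' B : Type u) [CommRing B'] [CommRing B] [IsLocalRing B'] [IsLocalRing B]
        [IsArtinianRing B'] [IsArtinianRing B] [Algebra R B'] [Algebra R B] [Algebra.FiniteType R B'] (π : B' →ₐ[R] B),
        Function.Surjective π →
        (∃ t : B', RingHom.ker π.toRingHom = Ideal.span {t} ∧
          ∀ a ∈ IsLocalRing.maximalIdeal B', a * t = 0) →
        ∀ g : S →ₐ[R] B, (IsLocalRing.maximalIdeal B).comap g = q →
          ∃ g' : S →ₐ[R] B', π.comp g' = g) : Algebra.IsSmoothAt R q := by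
  letI := (Localization.localRingHom (Ideal.comap (algebraMap R S) q) q (algebraMap R S) rfl).toAlgebra
  haveI : IsScalarTower R (Localization.AtPrime (Ideal.comap (algebraMap R S) q)) (Localization.AtPrime q) :=
    .of_algebraMap_eq fun a => by
      rw [IsScalarTower.algebraMap_apply R S (Localization.AtPrime q)]
      exact (Localization.localRingHom_to_map _ _ _ _ a).symm
  haveI : IsLocalHom (algebraMap (Localization.AtPrime (Ideal.comap (algebraMap R S) q)) (Localization.AtPrime q)) :=
    Localization.isLocalHom_localRingHom _ _ _ rfl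
  haveI : IsNoetherianRing S := Algebra.FiniteType.isNoetherianRing R S
  refine Groth.Agent.S9268.formallySmooth_atPrime R S q (Groth.Agent.S9268.adic_of_adic_atPrime R S
    (Ideal.comap (algebraMap R S) q) q (Groth.Agent.AdicSmooth.isAdicFormallySmooth_of_smallLift ?_))
  intro A _ _ _ _ _ J hJ hlen _ ψ _ hbij
  letI : Algebra R A := ((algebraMap (Localization.AtPrime (Ideal.comap (algebraMap R S) q)) A).comp
    (algebraMap R _)).toAlgebra
  haveI : IsScalarTower R (Localization.AtPrime (Ideal.comap (algebraMap R S) q)) A := .of_algebraMap_eq fun _ => rfl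
  haveI : IsScalarTower R (Localization.AtPrime (Ideal.comap (algebraMap R S) q)) (A ⧸ J) :=
    .of_algebraMap_eq fun _ => rfl
  haveI : IsSimpleModule A J := Module.length_eq_one_iff.1 hlen
  obtain ⟨t, ht⟩ : ∃ t, J = Ideal.span {t} := by
    haveI := IsSimpleModule.nontrivial A J
    obtain ⟨x, hx⟩ := exists_ne (0 : J)
    refine ⟨x.1, le_antisymm (fun y hy => ?_) ((Ideal.span_singleton_le_iff_mem J).2 x.2)⟩
    obtain ⟨c, hc⟩ := Submodule.mem_span_singleton.1
      ((IsSimpleModule.span_singleton_eq_top A hx).symm ▸ Submodule.mem_top :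
        (⟨y, hy⟩ : J) ∈ Submodule.span A {x})
    exact Ideal.mem_span_singleton'.2 ⟨c, congrArg Subtype.val hc⟩
  have hann : ∀ a ∈ IsLocalRing.maximalIdeal A, ∀ y ∈ J, a * y = 0 := fun a ha y hy => by
    have h1 : (IsLocalRing.maximalIdeal A) • (⊤ : Submodule A J) = ⊥ := by
      rcases eq_bot_or_eq_top ((IsLocalRing.maximalIdeal A) • (⊤ : Submodule A J)) with h | h
      · exact h
      · exfalso
        have := Submodule.eq_bot_of_le_smul_of_le_jacobson_bot (IsLocalRing.maximalIdeal A) ⊤
          Module.Finite.fg_top h.ge (IsLocalRing.maximalIdeal_le_jacobson _)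
        exact bot_ne_top this.symm
    have h2 : a • (⟨y, hy⟩ : J) ∈ (⊥ : Submodule A J) := h1 ▸ Submodule.smul_mem_smul ha Submodule.mem_top
    exact congrArg Subtype.val (Submodule.mem_bot A |>.1 h2)
  let g : S →ₐ[R] A ⧸ J := (ψ.restrictScalars R).comp (IsScalarTower.toAlgHom R S _)
  haveI : Algebra.FiniteType R A := by
    let π' : A ⧸ J →ₐ[R] IsLocalRing.ResidueField (A ⧸ J) := IsScalarTower.toAlgHom R _ _
    have hs : Function.Surjective (((IsLocalRing.residue (A ⧸ J)).comp (ψ.toRingHom)).comp
        (algebraMap S (Localization.AtPrime q))) := by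
      intro z
      obtain ⟨w, rfl⟩ := hbij.2 z
      obtain ⟨s, hs⟩ := (Ideal.bijective_algebraMap_quotient_residueField q).2 w
      obtain ⟨s, rfl⟩ := Ideal.Quotient.mk_surjective s
      refine ⟨s, ?_⟩
      rw [← hs]
      rfl
    let θ : A →ₐ[R] IsLocalRing.ResidueField (A ⧸ J) := π'.comp (Ideal.Quotient.mkₐ R J)
    have : (⊤ : Subalgebra R (IsLocalRing.ResidueField (A ⧸ J))).FG :=
      (Algebra.FiniteType.of_surjective (π'.comp g) (fun z => hs z)).out
    exact finiteType_of_residue θ (IsLocalRing.residue_surjective.comp Ideal.Quotient.mk_surjective) this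
  obtain ⟨g', hg'⟩ := H A (A ⧸ J) (Ideal.Quotient.mkₐ R J) Ideal.Quotient.mk_surjective
    ⟨t, by rw [← ht]; exact Ideal.Quotient.mkₐ_ker R J, fun a ha => hann a ha t (ht ▸ Ideal.mem_span_singleton_self t)⟩ g
    (by
      show Ideal.comap ((ψ.toRingHom).comp (algebraMap S (Localization.AtPrime q))) _ = q
      have h4 : (IsLocalRing.maximalIdeal (A ⧸ J)).comap ψ.toRingHom = IsLocalRing.maximalIdeal _ :=
        ((IsLocalRing.local_hom_TFAE ψ.toRingHom).out 0 4).1 ‹IsLocalHom ψ.toRingHom›
      rw [← Ideal.comap_comap, h4]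
      exact Localization.AtPrime.comap_maximalIdeal)
  have hu : ∀ y : q.primeCompl, IsUnit (g' y) := fun y => by
    have h1 : IsUnit (Ideal.Quotient.mk J (g' y)) := by
      have : Ideal.Quotient.mk J (g' y) = g y := AlgHom.congr_fun hg' y
      rw [this]
      exact (IsLocalization.map_units (Localization.AtPrime q) y).map ψ
    haveI := (Ideal.Quotient.mk_surjective (I := J)).isLocalHom
    exact IsLocalHom.map_nonunit (f := Ideal.Quotient.mk J) _ h1
  let χ₀ : Localization.AtPrime q →ₐ[R] A := IsLocalization.liftAlgHom (M := q.primeCompl) hu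
  let χ : Localization.AtPrime q →ₐ[Localization.AtPrime (Ideal.comap (algebraMap R S) q)] A :=
    { χ₀.toRingHom with
      commutes' := fun x => by
        have : χ₀.toRingHom.comp (algebraMap (Localization.AtPrime (Ideal.comap (algebraMap R S) q))
            (Localization.AtPrime q)) = algebraMap _ A := by
          apply IsLocalization.ringHom_ext (Ideal.comap (algebraMap R S) q).primeCompl
          ext a
          simp only [RingHom.comp_apply, ← IsScalarTower.algebraMap_apply]
          exact χ₀.commutes a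
        exact RingHom.congr_fun this x }
  refine ⟨χ, AlgHom.ext fun x => ?_⟩
  have : ((Ideal.Quotient.mk J).comp χ₀.toRingHom) = ψ.toRingHom := by
    apply IsLocalization.ringHom_ext q.primeCompl
    ext s
    show Ideal.Quotient.mk J (χ₀ (algebraMap S _ s)) = _
    rw [show χ₀ (algebraMap S _ s) = g' s from IsLocalization.lift_eq hu s]
    exact AlgHom.congr_fun hg' s
  exact RingHom.congr_fun this x

end Groth.Agent.SmallExt1
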